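import Mathlib
set_option linter.all false

/-!
# Weights of a finite abelian subgroup in a representation in coprime characteristic

If a finite abelian group `A` acts non-trivially on a vector space over a field with enough roots of
unity in which `|A|` is invertible, some non-trivial character of `A` is a weight; weights are permuted by
the normaliser; vectors of distinct weights are independent.  Hence the degree of a representation is at
least the size of the smallest orbit of the normaliser on the non-trivial characters.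
-/

set_option autoImplicit false
set_option linter.style.haveILetI false

namespace Cfsg.Agent.H972.Weights

open Module

variable {A K U : Type*} [CommGroup A] [Field K] [AddCommGroup U] [Module K U]

/-- The character `χ` of `A` is a weight of the representation `r`. -/
def HasWeight (r : A →* Module.End K U) (χ : A →* Kˣ) : Prop :=
  ∃ w : U, w ≠ 0 ∧ ∀ a, r a w = (χ a : K) • w

/-- The sum of all characters at a non-identity element vanishes. -/
theorem sum_char_eq_zero [Finite A] [Fintype (A →* Kˣ)] [HasEnoughRootsOfUnity K (Monoid.exponent A)]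
    {c : A} (hc : c ≠ 1) : ∑ χ : A →* Kˣ, ((χ c : Kˣ) : K) = 0 := by
  obtain ⟨φ, hφ⟩ := CommGroup.exists_apply_ne_one_of_hasEnoughRootsOfUnity A K hc
  have h : ((φ c : Kˣ) : K) * ∑ χ : A →* Kˣ, ((χ c : Kˣ) : K) = ∑ χ : A →* Kˣ, ((χ c : Kˣ) : K) := by
    rw [Finset.mul_sum]
    refine Fintype.sum_equiv (Equiv.mulLeft φ) _ _ fun χ => ?_
    simp
  have h1 : ((φ c : Kˣ) : K) ≠ 1 := fun e => hφ (Units.ext e)
  by_contra hne
  exact h1 (mul_right_cancel₀ hne (by rw [h, one_mul]))

/-- A non-trivial action in coprime characteristic has a non-trivial weight. -/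
theorem exists_hasWeight [Finite A] [HasEnoughRootsOfUnity K (Monoid.exponent A)]
    (hK : (Nat.card A : K) ≠ 0) (r : A →* Module.End K U) (h : ∃ a, r a ≠ 1) :
    ∃ χ : A →* Kˣ, χ ≠ 1 ∧ HasWeight r χ := by
  classical
  haveI : Fintype A := Fintype.ofFinite A
  have hfin : Finite (A →* Kˣ) := by
    obtain ⟨e⟩ := CommGroup.monoidHom_mulEquiv_of_hasEnoughRootsOfUnity A K
    exact Finite.of_equiv A e.symm.toEquiv
  haveI : Fintype (A →* Kˣ) := Fintype.ofFinite _
  have hcard : Fintype.card (A →* Kˣ) = Fintype.card A := by
    obtain ⟨e⟩ := CommGroup.monoidHom_mulEquiv_of_hasEnoughRootsOfUnity A K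
    exact Fintype.card_congr e.toEquiv
  set e : (A →* Kˣ) → Module.End K U := fun χ => ∑ a : A, ((χ a⁻¹ : Kˣ) : K) • r a with he
  have hmul : ∀ (χ : A →* Kˣ) (b : A), r b * e χ = ((χ b : Kˣ) : K) • e χ := by
    intro χ b
    simp only [he, Finset.mul_sum, Finset.smul_sum]
    refine Fintype.sum_equiv (Equiv.mulLeft b) _ _ fun a => ?_
    rw [Equiv.coe_mulLeft, mul_smul_comm, ← map_mul, smul_smul]
    congr 1
    rw [mul_inv_rev, map_mul, Units.val_mul, mul_comm, mul_assoc, ← Units.val_mul, ← map_mul, inv_mul_cancel,
      map_one, Units.val_one, mul_one]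
  have hsum : ∑ χ : A →* Kˣ, e χ = (Nat.card A : K) • (1 : Module.End K U) := by
    simp only [he]
    rw [Finset.sum_comm]
    rw [Finset.sum_eq_single (1 : A)]
    · rw [← Finset.sum_smul]
      simp [hcard]
    · intro a _ ha
      rw [← Finset.sum_smul, sum_char_eq_zero (inv_ne_one.mpr ha), zero_smul]
    · intro h1
      exact absurd (Finset.mem_univ _) h1
  by_contra hcon
  push Not at hcon
  have hzero : ∀ χ : A →* Kˣ, χ ≠ 1 → e χ = 0 := by
    intro χ hχ
    by_contra hne
    obtain ⟨v, hv⟩ : ∃ v, e χ v ≠ 0 := by
      by_contra hall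
      push Not at hall
      exact hne (LinearMap.ext hall)
    refine hcon χ hχ ⟨e χ v, hv, fun a => ?_⟩
    have := congrArg (fun f : Module.End K U => f v) (hmul χ a)
    simpa using this
  rw [Finset.sum_eq_single (1 : A →* Kˣ) (fun χ _ hχ => hzero χ hχ)
    (fun h1 => absurd (Finset.mem_univ _) h1)] at hsum
  obtain ⟨a, ha⟩ := h
  apply ha
  have h2 := hmul 1 a
  rw [hsum] at h2
  simp only [MonoidHom.one_apply, Units.val_one, one_smul, mul_smul_comm, mul_one] at h2
  have h3 := congrArg (fun f : Module.End K U => (Nat.card A : K)⁻¹ • f) h2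
  simpa only [smul_smul, inv_mul_cancel₀ hK, one_smul] using h3

/-- Weights are transported by elements normalising `A`. -/
theorem HasWeight.conj {G : Type*} [Group G] {ρ : G →* Module.End K U} {u : A →* G} {χ : A →* Kˣ}
    (h : HasWeight (ρ.comp u) χ) (g : G) (α : A →* A) (hα : ∀ a, u (α a) = g⁻¹ * u a * g) :
    HasWeight (ρ.comp u) (χ.comp α) := by
  obtain ⟨w, hw, hr⟩ := h
  refine ⟨ρ g w, ?_, fun a => ?_⟩
  · intro h0
    apply hw
    have : ρ g⁻¹ (ρ g w) = w := by
      rw [← Module.End.mul_apply, ← map_mul, inv_mul_cancel, map_one, Module.End.one_apply]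
    rw [← this, h0, map_zero]
  · have h1 : (ρ.comp u) a (ρ g w) = ρ g ((ρ.comp u) (α a) w) := by
      rw [MonoidHom.comp_apply, MonoidHom.comp_apply, hα, ← Module.End.mul_apply, ← Module.End.mul_apply,
        ← map_mul, ← map_mul]
      congr 2
      group
    rw [h1, hr, map_smul, MonoidHom.comp_apply]

/-- Vectors with distinct weights are independent: the number of weights is at most the degree. -/
theorem card_le_finrank [FiniteDimensional K U] (r : A →* Module.End K U) {ι : Type*} [Finite ι]
    (χ : ι → A →* Kˣ) (hinj : Function.Injective χ) (hw : ∀ i, HasWeight r (χ i)) :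
    Nat.card ι ≤ Module.finrank K U := by
  classical
  haveI : Fintype ι := Fintype.ofFinite ι
  choose w hw0 hw1 using hw
  have hcomm : ∀ a b, Commute (r a) (r b) := fun a b => by
    change r a * r b = r b * r a
    rw [← map_mul, ← map_mul, mul_comm]
  have hmaps : ∀ (i j : A) (φ : K), Set.MapsTo (r i) ((r j).maxGenEigenspace φ) ((r j).maxGenEigenspace φ) :=
    fun i j φ => Module.End.mapsTo_maxGenEigenspace_of_comm (hcomm j i) φ
  have hind := Module.End.independent_iInf_maxGenEigenspace_of_forall_mapsTo (f := fun a : A => r a) hmaps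
  have hinj2 : Function.Injective (fun (i : ι) (a : A) => ((χ i a : Kˣ) : K)) := by
    intro i j hij
    apply hinj
    ext a
    exact congrFun hij a
  have hind2 := hind.comp hinj2
  have hli : LinearIndependent K w := by
    refine iSupIndep.linearIndependent _ hind2 (fun i => ?_) hw0
    simp only [Function.comp, Submodule.mem_iInf]
    intro a
    refine (Module.End.genEigenspace (r a) _).mono (show (1 : ℕ∞) ≤ ⊤ from le_top) ?_
    rw [Module.End.genEigenspace_one, LinearMap.mem_ker]
    simp [hw1 i a]
  have := hli.fintype_card_le_finrank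
  rwa [Nat.card_eq_fintype_card]

end Cfsg.Agent.H972.Weights
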