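import Cfsg.Agent.H101.RealOdd
import Cfsg.Agent.H729.PairTool_m3
import Cfsg.Agent.Prune
set_option linter.all false
prune_inst 0x7f00000000000000000000000000000000000000000000000000000000000000000000000000000000000000000000000000000000000000000000000000000000000000000000000000000000000000003fffffffffffffffffffffffffffbeffbdffffffff
open scoped Cfsg.Agent.FastGrp

/-!
# Criteria for `RealOdd` parallel to those for `PairN` (helper972)

The criteria of `H729/PairBase.lean` and `H463/Sp/Base.lean` (helper729, helper463) with the conclusion `RealOdd`: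
an involution which normalizes `⟨x⟩`, `x` of odd prime order commuting with no involution, inverts `x`.
-/

set_option autoImplicit false

namespace Cfsg.Agent.H972.RO

open Subgroup Cfsg.Agent.H101.RO Cfsg.Agent.H729.PairBase Cfsg.Agent.H463.Pair

variable {S : Type*} [Group S]

/-- `S` has an element `x` of order `r` inverted by an involution and commuting with no involution. -/
def RealAt (S : Type*) [Group S] (r : ℕ) : Prop :=
  ∃ x y : S, orderOf x = r ∧ orderOf y = 2 ∧ y * x * y⁻¹ = x⁻¹ ∧ ∀ u : S, orderOf u = 2 → ¬ Commute u x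

theorem RealAt.congr {T : Type*} [Group T] {r : ℕ} (e : S ≃* T) (h : RealAt S r) : RealAt T r := by
  obtain ⟨x, y, hx, hy, hi, hC⟩ := h
  refine ⟨e x, e y, by rw [MulEquiv.orderOf_eq, hx], by rw [MulEquiv.orderOf_eq, hy], ?_, fun u hu hc => ?_⟩
  · rw [← map_mul, ← map_inv, ← map_mul, hi, map_inv]
  · refine hC (e.symm u) (by rw [MulEquiv.orderOf_eq, hu]) ?_
    have := hc.map e.symm
    rwa [MulEquiv.symm_apply_apply] at this

/-- **Criterion.** `x` of order `r`, `y` an involution normalizing `⟨x⟩`, no involution commutes with `x`. -/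
theorem of_odd [Finite S] {r : ℕ} (hr : r.Prime) (hr2 : r ≠ 2) {x y : S} (hx : orderOf x = r)
    (hy : orderOf y = 2) (hn : y ∈ normalizer ((zpowers x : Subgroup S) : Set S))
    (hC : ∀ u : S, orderOf u = 2 → ¬ Commute u x) : RealAt S r := by
  have hx1 : orderOf x = r ^ 1 := by rw [hx, pow_one]
  have hy2 : y ^ 2 = 1 := by rw [← hy]; exact pow_orderOf_eq_one _
  exact ⟨x, y, hx, hy, inv_of_sq_comm hr hr2 hx1 hn (by rw [hy2, one_mul, mul_one]) (hC y hy), hC⟩

theorem of_even [Finite S] {r : ℕ} (hr : r.Prime) (hr2 : r ≠ 2) {x : S} (hx : orderOf x = r)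
    (hN : 2 ∣ Nat.card (normalizer ((zpowers x : Subgroup S) : Set S))) (hC : NoTwo S r) : RealAt S r := by
  have : Fact (Nat.Prime 2) := ⟨Nat.prime_two⟩
  obtain ⟨y, hy⟩ := exists_prime_orderOf_dvd_card' 2 hN
  exact of_odd hr hr2 hx (by rw [orderOf_coe, hy]) y.2 fun u hu => hC u x hu hx

theorem of_odd_even [Finite S] {r : ℕ} (hr : r.Prime) (hr2 : r ≠ 2) {x : S} (hx : orderOf x = r)
    (hC : ¬ 2 ∣ Nat.card (centralizer ({x} : Set S)))
    (hN : 2 ∣ Nat.card (normalizer ((zpowers x : Subgroup S) : Set S))) : RealAt S r := by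
  have : Fact (Nat.Prime 2) := ⟨Nat.prime_two⟩
  obtain ⟨y, hy⟩ := exists_prime_orderOf_dvd_card' 2 hN
  exact of_odd hr hr2 hx (by rw [orderOf_coe, hy]) y.2 fun u hu hc =>
    hC (dvd_card_centralizer (by rw [hu]) hc)

theorem of_card_fermat [Finite S] [IsSimpleGroup S] {r k : ℕ} (hr : r.Prime) (hk : r - 1 = 2 ^ k)
    (hr2 : r ≠ 2) (h1 : r ∣ Nat.card S) (h2 : ¬ r ^ 2 ∣ Nat.card S) (hne : Nat.card S ≠ r) (hC : NoTwo S r) :
    RealAt S r := by
  obtain ⟨x, e, n, hx, he, he1, -, hN, -, -⟩ := exists_data hr h1 h2 hne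
  refine of_even hr hr2 hx ?_ hC
  rw [hN]
  refine dvd_mul_of_dvd_right ?_ _
  rw [hk] at he
  obtain ⟨j, hj, rfl⟩ := (Nat.dvd_prime_pow Nat.prime_two).1 he
  refine dvd_pow_self 2 ?_
  rintro rfl
  exact he1 (pow_zero 2)

variable {G : Type*} [Group G]

open Cfsg.Agent.H463.Sp (mem_of_index_two)

theorem of_index_two [Finite G] {H : Subgroup G} (hi : H.index = 2) {r : ℕ} (hr : r.Prime) (hr2 : r ≠ 2) {x : G}
    (hx : orderOf x = r) (hC : ¬ 2 ∣ Nat.card (centralizer ({x} : Set G)))
    (hN : 4 ∣ Nat.card (normalizer ((zpowers x : Subgroup G) : Set G))) : RealAt H r := by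
  classical
  have hr' : ¬ 2 ∣ r := fun h => hr2 ((Nat.prime_dvd_prime_iff_eq Nat.prime_two hr).1 h).symm
  have hxH := mem_of_index_two hi hr' hx
  have hn : H.Normal := Subgroup.normal_of_index_eq_two hi
  set N : Subgroup G := normalizer ((zpowers x : Subgroup G) : Set G) with hNd
  have h1 : H.relIndex N ∣ 2 := hi ▸ Subgroup.relIndex_dvd_index_of_normal H N
  have h2 : Nat.card (H ⊓ N : Subgroup G) * H.relIndex N = Nat.card N := by
    have := Subgroup.card_mul_index (H.subgroupOf N)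
    rw [Subgroup.relIndex]
    rw [← this]
    congr 1
    rw [← Subgroup.subgroupOf_map_subtype]
    exact (Nat.card_congr ((H.subgroupOf N).equivMapOfInjective _ N.subtype_injective).toEquiv).symm
  have h3 : 2 ∣ Nat.card (H ⊓ N : Subgroup G) := by
    rcases (Nat.dvd_prime Nat.prime_two).1 h1 with h | h
    · rw [h, mul_one] at h2
      rw [h2]
      exact (by norm_num : 2 ∣ 4).trans hN
    · rw [h] at h2
      rw [← h2] at hN
      exact Nat.dvd_of_mul_dvd_mul_right (by norm_num : 0 < 2) hN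
  have : Fact (Nat.Prime 2) := ⟨Nat.prime_two⟩
  obtain ⟨y, hy⟩ := exists_prime_orderOf_dvd_card' 2 h3
  have hyH : (y : G) ∈ H := y.2.1
  have hyN : (y : G) ∈ N := y.2.2
  have hx' : orderOf (⟨x, hxH⟩ : H) = r := by rw [Subgroup.orderOf_mk]; exact hx
  refine of_odd hr hr2 (x := (⟨x, hxH⟩ : H)) (y := (⟨y, hyH⟩ : H)) hx'
    (by rw [Subgroup.orderOf_mk, Subgroup.orderOf_coe, hy]) ?_ ?_
  · have h4 : (y : G) * x * (y : G)⁻¹ ∈ zpowers x := (Subgroup.mem_normalizer_iff.1 hyN x).1 (mem_zpowers x)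
    have h5 := (isOfFinOrder_of_finite x).mem_zpowers_iff_mem_range_orderOf.1 h4
    rw [Finset.mem_image] at h5
    obtain ⟨k, -, hk⟩ := h5
    refine mem_normalizer_of_conj_pow (k := k) (Subtype.ext ?_)
    exact hk.symm
  · intro u hu hc
    have h4 : Commute (u : G) x := congrArg Subtype.val hc
    exact hC (dvd_card_centralizer (x := (u : G)) (y := x) (r := 2) (by rw [Subgroup.orderOf_coe, hu]) h4)

theorem of_sub [Finite G] {r : ℕ} (hr : r.Prime) (hr2 : r ≠ 2) (hd : r ∣ Nat.card G)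
    (hC : ∀ P : Subgroup G, Nat.card P = r → ¬ 2 ∣ Nat.card (centralizer (P : Set G)))
    (hN : ∀ P : Subgroup G, Nat.card P = r → 2 ∣ Nat.card (normalizer (P : Set G))) : RealAt G r := by
  have : Fact r.Prime := ⟨hr⟩
  obtain ⟨x, hx⟩ := exists_prime_orderOf_dvd_card' (G := G) r hd
  have h := hC (zpowers x) (by rw [Nat.card_zpowers, hx])
  rw [centralizer_zpowers_eq] at h
  exact of_odd_even hr hr2 hx h (hN (zpowers x) (by rw [Nat.card_zpowers, hx]))

end Cfsg.Agent.H972.RO
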